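import Mathlib
import Cfsg.Agent.S1679
import Cfsg.Agent.Lib.JankoTwoModel.Centralizer
import Cfsg.Agent.Lib.SuzG2J2.Data

/-!
In the presented group G₂(4) on `a, …, f` the subgroup on `a, …, e` is the Hall–Janko group, it is
maximal, and it meets every other conjugate in one of its maximal subgroups.
-/

set_option autoImplicit false
set_option maxRecDepth 100000

namespace Cfsg.Agent.Lib.SuzG2J2

open Cfsg.Agent.Lib.CosetTable

/-- An orbit tree: each later point is the image of an earlier one under a listed word. -/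
noncomputable def treeOK (A : Table) (ws : List (List ℕ)) (start : ℕ) (L : List (ℕ × ℕ × ℕ)) : Bool :=
  (List.range L.length).all fun i =>
    bif Nat.beq i 0 then Nat.beq (L.getD i (0, 0, 0)).1 start
    else Nat.blt (L.getD i (0, 0, 0)).2.1 i && Nat.blt (L.getD i (0, 0, 0)).2.2 ws.length &&
      Nat.beq (A.walk (ws.getD (L.getD i (0, 0, 0)).2.2 [])
        (L.getD (L.getD i (0, 0, 0)).2.1 (0, 0, 0)).1) (L.getD i (0, 0, 0)).1

/-- Membership among the points of a tree. -/
noncomputable def hasPt (L : List (ℕ × ℕ × ℕ)) (x : ℕ) : Bool := L.any fun e => Nat.beq e.1 x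

/-- The data make the point stabiliser in `O` maximal. -/
noncomputable def primOK (C : Cert) (A : Table) (O : Orb) (ks : List (List ℕ))
    (S : List (List ℕ × List (ℕ × ℕ × ℕ) × List (ℕ × ℕ × ℕ))) : Bool :=
  (ks.all fun k => k.all (fun a => Nat.blt a C.k && C.subs.contains [a]) &&
    Nat.beq (A.walk k (O.get 0)) (O.get 0)) &&
  (S.all fun q => q.1.all (fun a => Nat.blt a C.k && C.subs.contains [a]) &&
    treeOK A ks (A.walk q.1 (O.get 0)) q.2.1 &&
    treeOK A (ks ++ [q.1]) (O.get 0) q.2.2 &&
    (List.range O.m).all fun p => hasPt q.2.2 (O.get p)) &&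
  (List.range O.m).all fun p => Nat.beq p 0 || S.any fun q => hasPt q.2.1 (O.get p)

section Generic

variable {G : Type*} [Group G] {f : ℕ → G} {C : Cert} {A : Table} {N : ℕ} (K : Checked C A N)
  (M : Model f C) (φ : G →* Equiv.Perm (Fin A.n)) (hφ : ∀ g, g < C.k → φ (f g) = K.perm g)

include M hφ

theorem mem_iff_fix (x g : G) (i : Fin A.n) (hi : K.coset f i = QuotientGroup.mk x) :
    x⁻¹ * g * x ∈ wordSubgroup f C.subs ↔ φ g i = i := by
  constructor
  · intro h
    apply Checked.coset_injective K M φ hφ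
    rw [Checked.coset_map K M φ hφ, hi, MulAction.Quotient.smul_mk, smul_eq_mul, QuotientGroup.eq]
    have := inv_mem h
    simpa [mul_assoc] using this
  · intro h
    have e := Checked.coset_map K M φ hφ g i
    rw [h, hi, MulAction.Quotient.smul_mk, smul_eq_mul, QuotientGroup.eq] at e
    simpa [mul_assoc] using e

theorem tree_spec (T : Subgroup G) (ws : List (List ℕ))
    (hws : ∀ w ∈ ws, (∀ a ∈ w, a < C.k) ∧ eval f w ∈ T) (start : Fin A.n)
    (L : List (ℕ × ℕ × ℕ)) (h : treeOK A ws start L = true) (x : Fin A.n)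
    (hx : hasPt L x = true) : ∃ t ∈ T, φ t start = x := by
  simp only [treeOK, List.all_eq_true, List.mem_range] at h
  have key : ∀ i, i < L.length → ∃ t ∈ T, (φ t start : ℕ) = (L.getD i (0, 0, 0)).1 := by
    intro i
    induction i using Nat.strongRecOn with
    | _ i IH =>
      intro hi
      have hI := h i hi
      by_cases h0 : i = 0
      · subst h0
        simp only [Nat.beq_refl, cond_true, beq_iff] at hI
        exact ⟨1, one_mem T, by rw [map_one, Equiv.Perm.one_apply]; exact hI.symm⟩
      · have hb : Nat.beq i 0 = false := by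
          rw [Bool.eq_false_iff]; exact fun e => h0 (beq_iff.mp e)
        simp only [hb, cond_false, Bool.and_eq_true, blt_iff, beq_iff] at hI
        obtain ⟨⟨h1, h2⟩, h3⟩ := hI
        obtain ⟨t, ht, e⟩ := IH _ h1 (h1.trans hi)
        have hw : ws.getD (L.getD i (0, 0, 0)).2.2 [] ∈ ws := by
          rw [List.getD_eq_getElem _ _ h2]; exact List.getElem_mem h2
        refine ⟨eval f (ws.getD (L.getD i (0, 0, 0)).2.2 []) * t, mul_mem (hws _ hw).2 ht, ?_⟩
        rw [map_mul, Equiv.Perm.mul_apply, Checked.map_eval K M φ hφ (hws _ hw).1,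
          K.eval_perm (hws _ hw).1, e]
        exact h3
  simp only [hasPt, List.any_eq_true, beq_iff] at hx
  obtain ⟨e, he, hex⟩ := hx
  obtain ⟨i, hi, rfl⟩ := List.getElem_of_mem he
  obtain ⟨t, ht, e⟩ := key i hi
  exact ⟨t, ht, Fin.ext (e.trans (by rw [List.getD_eq_getElem _ _ hi, hex]))⟩

omit hφ in
theorem word_mem {w : List ℕ}
    (h : w.all (fun a => Nat.blt a C.k && C.subs.contains [a]) = true) :
    (∀ a ∈ w, a < C.k) ∧ eval f w ∈ wordSubgroup f C.subs := by
  simp only [List.all_eq_true, Bool.and_eq_true, blt_iff, List.contains_iff_mem] at h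
  refine ⟨fun a ha => (h a ha).1, ?_⟩
  induction w with
  | nil => exact one_mem _
  | cons a w ih =>
    refine mul_mem (ih fun b hb => h b (List.mem_cons_of_mem _ hb)) ?_
    exact Subgroup.subset_closure ⟨[a], (h a (by simp)).2, by simp [eval]⟩

/-- a subgroup containing a point stabiliser and one further element contains everything -/
theorem le_of_primOK (O : Orb) (hO : Below (O.posOK A C.subs) O.m) (hm : 0 < O.m)
    (ks : List (List ℕ)) (S : List (List ℕ × List (ℕ × ℕ × ℕ) × List (ℕ × ℕ × ℕ)))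
    (hok : primOK C A O ks S = true) (p : Fin A.n) (hp : (p : ℕ) = O.get 0) (L : Subgroup G)
    (hL : ∀ k ∈ wordSubgroup f C.subs, φ k p = p → k ∈ L)
    (g : G) (hgH : g ∈ wordSubgroup f C.subs) (hgp : φ g p ≠ p) (hgL : g ∈ L) :
    wordSubgroup f C.subs ≤ L := by
  obtain ⟨h0, -, hmem⟩ := K.orbit_spec M φ hφ O hm hO
  have hp0 : p = ⟨O.get 0, h0⟩ := Fin.ext hp
  have horb : ∀ x ∈ wordSubgroup f C.subs, O.mem (φ x p) = true := by
    intro x hx
    refine hmem _ ⟨⟨x, hx⟩, ?_⟩
    rw [Checked.coset_map K M φ hφ, hp0]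
    rfl
  have hget : ∀ x : Fin A.n, O.mem x = true → ∃ q < O.m, O.get q = x := by
    intro x hx
    simp only [Orb.mem, andB_eq, Bool.and_eq_true, beq_iff, blt_iff] at hx
    exact ⟨_, hx.1, hx.2⟩
  simp only [primOK, Bool.and_eq_true, List.all_eq_true, Bool.or_eq_true, List.any_eq_true,
    List.mem_range, beq_iff] at hok
  obtain ⟨⟨hks, hS⟩, hcov⟩ := hok
  obtain ⟨j, hj, hjq⟩ := hget _ (horb g hgH)
  have hj0 : j ≠ 0 := by
    intro e
    subst e
    exact hgp (Fin.ext (hjq.symm.trans hp.symm))
  obtain ⟨q, hq, hqT⟩ := (hcov j hj).resolve_left hj0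
  obtain ⟨⟨⟨hu, hK⟩, hT⟩, hall⟩ := hS q hq
  obtain ⟨hul, huH⟩ := word_mem (f := f) M (List.all_eq_true.mpr fun a ha => by
    simpa [Bool.and_eq_true, beq_iff] using hu a ha)
  have hkw : ∀ w ∈ ks, (∀ a ∈ w, a < C.k) ∧ eval f w ∈ wordSubgroup f C.subs ∧
      φ (eval f w) p = p := by
    intro w hw
    obtain ⟨hl, hH⟩ := word_mem (f := f) M (List.all_eq_true.mpr fun a ha => by
      simpa [Bool.and_eq_true, beq_iff] using (hks w hw).1 a ha)
    refine ⟨hl, hH, ?_⟩
    rw [Checked.map_eval K M φ hφ hl]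
    exact Fin.ext ((K.eval_perm hl p).trans (by rw [hp]; exact (hks w hw).2))
  have hs : (φ (eval f q.1) p : ℕ) = A.walk q.1 (O.get 0) := by
    rw [Checked.map_eval K M φ hφ hul, K.eval_perm hul, hp]
  let S₀ : Subgroup G := wordSubgroup f C.subs ⊓
    (MulAction.stabilizer (Equiv.Perm (Fin A.n)) p).comap φ
  obtain ⟨k, hk, hkq⟩ := tree_spec K M φ hφ S₀ ks
    (fun w hw => ⟨(hkw w hw).1, (hkw w hw).2.1, (hkw w hw).2.2⟩)
    (φ (eval f q.1) p) q.2.1 (by rw [hs]; exact hK) (φ g p) (by rw [← hjq]; exact hqT)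
  have hkL : k ∈ L := hL k hk.1 hk.2
  have hu_mem : eval f q.1 ∈ L := by
    have e : φ ((k * eval f q.1)⁻¹ * g) p = p := by
      rw [map_mul, map_inv, Equiv.Perm.mul_apply, ← hkq, Equiv.Perm.inv_eq_iff_eq, map_mul,
        Equiv.Perm.mul_apply]
    have h1 := hL _ (mul_mem (inv_mem (mul_mem hk.1 huH)) hgH) e
    have : eval f q.1 = k⁻¹ * (g * ((k * eval f q.1)⁻¹ * g)⁻¹) := by group
    rw [this]
    exact mul_mem (inv_mem hkL) (mul_mem hgL (inv_mem h1))
  intro x hx
  obtain ⟨i, hi, hiq⟩ := hget _ (horb x hx)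
  obtain ⟨t, ht, htx⟩ := tree_spec K M φ hφ (L ⊓ wordSubgroup f C.subs) (ks ++ [q.1])
    (fun w hw => by
      rcases List.mem_append.mp hw with hw | hw
      · exact ⟨(hkw w hw).1, hL _ (hkw w hw).2.1 (hkw w hw).2.2, (hkw w hw).2.1⟩
      · rw [List.mem_singleton.mp hw]; exact ⟨hul, hu_mem, huH⟩)
    p q.2.2 (by rw [hp]; exact hT) (φ x p) (by rw [← hiq]; exact hall i hi)
  have e : φ (t⁻¹ * x) p = p := by
    rw [map_mul, map_inv, Equiv.Perm.mul_apply, ← htx, Equiv.Perm.inv_eq_iff_eq]
  have h2 := hL _ (mul_mem (inv_mem ht.2) hx) e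
  have : x = t * (t⁻¹ * x) := by group
  rw [this]
  exact mul_mem ht.1 h2

end Generic

open Cfsg.Agent.Lib.Compute (GensOK genGroup)
open Cfsg.Agent.Lib.Icosian (lineCoding)

/-- the presentation of J₂ on `a, …, e` -/
def presJ : Pres (Fin 5) where
  k := 5
  gen n := ([0, 1, 2, 3, 4] : List (Fin 5)).getD n 0
  idx x := x.val
  edges := [(0, 5, 1), (1, 3, 2), (2, 8, 3), (3, 3, 4)]
  extraE := [
    .mul (.of 0) (.inv (.pow (.mul (.of 2) (.of 3)) 4)),
    .pow (.mul (.pow (.mul (.mul (.mul (.mul (.of 1) (.of 2)) (.of 3)) (.of 2)) (.of 3)) 5) (.of 4)) 3]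
  subsE := []

/-- its relators -/
def extraJ : List (FreeGroup (Fin 5)) := presJ.extraE.map (WExp.free presJ.gen)

theorem presJ_good : presJ.Good where
  gen_idx x := by fin_cases x <;> rfl
  idx_lt x := x.isLt
  idx_gen := by decide
  mem_nodes x := by fin_cases x <;> decide

/-- the presented group -/
abbrev PJ : Type := presJ.Grp extraJ

theorem card_PJ : Finite PJ ∧ Nat.card PJ ≤ 604800 := by
  have M : Model (presJ.gens extraJ) SuzLevelE.cert :=
    Pres.model presJ_good rfl rfl (by decide +kernel) (by decide +kernel)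
  have h0 := orderLE_step M [2, 3] (by decide +kernel) SuzLevelC.cover (orderLE_nil _)
  have h1 := orderLE_step M [0, 1, 2, 3] (by decide +kernel) SuzLevelD.cover h0
  have h2 := orderLE_step M (List.range 5) (by decide +kernel) SuzLevelE.cover h1
  exact finite_card_top M h2

/-- the generators of the presented G₂(4) -/
noncomputable abbrev gh : ℕ → S1679.PH := S1679.presH.gens S1679.extraH

/-- the subgroup on `a, …, e` -/
noncomputable abbrev HJ : Subgroup S1679.PH := wordSubgroup gh SuzG2.cert.subs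

theorem exists_action_PH : ∃ φ : S1679.PH →* Equiv.Perm (Fin SuzG2.tab.n),
    ∀ g, g < SuzG2.cert.k → φ (gh g) = SuzG2.checked.perm g :=
  Pres.exists_action S1679.presH_good S1679.certified.extra_eq S1679.certified.k_eq
    S1679.certified.rels_eq S1679.certified.words SuzG2.checked

theorem card_HJ : Nat.card HJ = 604800 := by
  obtain ⟨φ, hφ⟩ := exists_action_PH
  have h := Subgroup.index_mul_card HJ
  rw [SuzG2.checked.index_eq S1679.model_H φ hφ, S1679.simple_PH.2] at h
  change 416 * Nat.card HJ = 251596800 at h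
  omega

theorem exists_to_HJ : ∃ ψ : PJ →* S1679.PH, ψ.range = HJ ∧ Function.Injective ψ := by
  have M := S1679.model_H
  obtain ⟨ψ, hψ⟩ := Pres.exists_hom (extra := extraJ) presJ_good rfl (fun n => gh n)
    (fun n _ => Pres.gens_invol S1679.presH_good _)
    (by decide +kernel)
    (by
      intro w hw
      have h : allL (fun w => SuzG2.cert.rels.contains w) presJ.relWords = true := by decide +kernel
      exact M.rel _ (List.contains_iff_mem.mp (allL_spec h w hw)))
  have hr : ψ.range = HJ := by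
    rw [Pres.range_eq presJ_good ψ _ hψ, HJ, wordSubgroup,
      show SuzG2.cert.subs = (List.range 5).map fun a => [a] from by decide +kernel]
    congr 1
    ext x
    simp only [Set.mem_setOf_eq, List.mem_map, List.mem_range]
    constructor
    · rintro ⟨g, hg, rfl⟩
      exact ⟨_, ⟨g, hg, rfl⟩, by simp only [eval, one_mul]⟩
    · rintro ⟨_, ⟨a, ha, rfl⟩, rfl⟩
      exact ⟨a, ha, by simp only [eval, one_mul]⟩
  refine ⟨ψ, hr, ?_⟩
  haveI := card_PJ.1
  have h1 : Nat.card ψ.range = 604800 := by rw [hr]; exact card_HJ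
  have h2 := Nat.card_le_card_of_surjective _ ψ.rangeRestrict_surjective
  have hb : Function.Bijective ψ.rangeRestrict :=
    (Nat.bijective_iff_surjective_and_card _).mpr
      ⟨ψ.rangeRestrict_surjective, by
        have h3 : Nat.card (presJ.Grp extraJ) ≤ 604800 := card_PJ.2
        omega⟩
  exact fun a b h => hb.1 (Subtype.ext h)

theorem j2_chain : Compute.chainCheck (Compute.permOps 9 315) j2Gens j2Chain = true := by
  decide +kernel

theorem j2_size : Compute.chainSize j2Chain = 604800 := by decide +kernel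

theorem j2_pairs : j2Gens.all (Compute.pairCheck 9 315 Icosian.permChain) = true := by
  decide +kernel

/-- value of a word in packed permutations, first letter first -/
noncomputable def codeVal (w : List ℕ) : ℕ :=
  match w with
  | [] => (Compute.permOps 9 315).one
  | a :: w => (Compute.permOps 9 315).mul (codeVal w) (j2Gens.getD a (0, 0)).1

theorem j2_invol : (List.range 5).all (fun a =>
    Nat.beq (codeVal [a, a]) (Compute.permOps 9 315).one) = true := by decide +kernel

theorem j2_rels : presJ.relWords.all (fun w =>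
    w.all (fun a => Nat.blt a 5) && Nat.beq (codeVal w) (Compute.permOps 9 315).one) = true := by
  decide +kernel

theorem exists_to_J2 : ∃ _ : HJ ≃* Cfsg.Spor.J2, True := by
  obtain ⟨hT, hle⟩ := Compute.gensOK_of_pairCheck (Equiv.refl (Fin 315)) (by norm_num)
    Icosian.gensOK_lines Icosian.chain_ok j2_pairs
  have hp : ∀ a, ∃ x : Equiv.Perm (Fin 315),
      a < 5 → lineCoding.enc x = (j2Gens.getD a (0, 0)).1 := by
    intro a
    by_cases ha : a < 5
    · have hlen : a < j2Gens.length := by simpa [show j2Gens.length = 5 from rfl] using ha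
      obtain ⟨g, -, e, -⟩ := hT _ (List.getElem_mem hlen)
      exact ⟨g, fun _ => by rw [List.getD_eq_getElem _ _ hlen]; exact e⟩
    · exact ⟨1, fun h => absurd h ha⟩
  choose p hp using hp
  have hval : ∀ w : List ℕ, (∀ a ∈ w, a < 5) → lineCoding.enc (eval p w) = codeVal w := by
    intro w
    induction w with
    | nil => intro _; exact lineCoding.one_enc
    | cons a w ih =>
      intro hl
      simp only [eval, codeVal]
      rw [← lineCoding.mul_enc, ih fun b hb => hl b (List.mem_cons_of_mem _ hb), hp a (hl a (by simp))]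
  have hone : ∀ w : List ℕ, (∀ a ∈ w, a < 5) →
      Nat.beq (codeVal w) (Compute.permOps 9 315).one = true → eval p w = 1 := fun w hl h => by
    apply lineCoding.inj
    rw [hval w hl, lineCoding.one_enc]
    exact Nat.eq_of_beq_eq_true h
  obtain ⟨ρ, hρ⟩ := Pres.exists_hom (extra := extraJ) presJ_good rfl p
    (fun a ha => by
      change a < 5 at ha
      have := hone [a, a] (by simpa using ha)
        (List.all_eq_true.mp j2_invol a (List.mem_range.mpr ha))
      simpa [eval] using this)
    (by decide +kernel)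
    (by
      intro w hw
      have := List.all_eq_true.mp j2_rels w hw
      simp only [Bool.and_eq_true, List.all_eq_true, blt_iff] at this
      exact hone w this.1 this.2)
  have hJ : genGroup lineCoding j2Gens ≤ JankoTwoModel.J := hle
  have hc : Nat.card (genGroup lineCoding j2Gens) = 604800 := by
    rw [Compute.card_genGroup lineCoding hT j2_chain, j2_size]
  have hcJ : Nat.card JankoTwoModel.J = 604800 := by
    show Nat.card (genGroup lineCoding Icosian.permGens) = _
    rw [Compute.card_genGroup lineCoding Icosian.gensOK_lines Icosian.chain_ok, Icosian.chain_size]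
  have heq : genGroup lineCoding j2Gens = JankoTwoModel.J :=
    Subgroup.eq_of_le_of_card_ge hJ (by rw [hc, hcJ])
  have hge : JankoTwoModel.J ≤ ρ.range := by
    rw [← heq, Compute.genGroup, Subgroup.closure_le]
    rintro g ⟨q, hq, hg⟩
    obtain ⟨a, ha, rfl⟩ := List.getElem_of_mem hq
    have ha' : a < 5 := by simpa [show j2Gens.length = 5 from rfl] using ha
    refine ⟨presJ.gens extraJ a, ?_⟩
    rw [hρ a ha']
    apply lineCoding.inj
    rw [hp a ha', List.getD_eq_getElem _ _ ha, hg]
  have hle' : ρ.range ≤ JankoTwoModel.J := by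
    rw [← heq, Pres.range_eq presJ_good ρ _ hρ, Subgroup.closure_le]
    rintro _ ⟨a, ha, rfl⟩
    have hlen : a < j2Gens.length := by
      change a < 5 at ha
      simpa [show j2Gens.length = 5 from rfl] using ha
    exact Subgroup.subset_closure
      ⟨_, List.getElem_mem hlen, by rw [hp a ha, List.getD_eq_getElem _ _ hlen]⟩
  have hrange : ρ.range = JankoTwoModel.J := le_antisymm hle' hge
  haveI := card_PJ.1
  have hinj : Function.Injective ρ := by
    have h1 : Nat.card ρ.range = 604800 := by rw [hrange, hcJ]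
    have h2 := Nat.card_le_card_of_surjective _ ρ.rangeRestrict_surjective
    have hb : Function.Bijective ρ.rangeRestrict :=
      (Nat.bijective_iff_surjective_and_card _).mpr
        ⟨ρ.rangeRestrict_surjective, by
          have h3 : Nat.card (presJ.Grp extraJ) ≤ 604800 := card_PJ.2
          omega⟩
    exact fun a b h => hb.1 (Subtype.ext h)
  obtain ⟨ψ, hr, hψ⟩ := exists_to_HJ
  exact ⟨((MonoidHom.ofInjective hψ).trans (MulEquiv.subgroupCongr hr)).symm.trans
    (((MonoidHom.ofInjective hinj).trans (MulEquiv.subgroupCongr hrange)).trans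
      JankoTwoModel.equivJ), trivial⟩

theorem prim1 : primOK SuzG2.cert SuzG2.tab SuzG2.orb1 ks1 subs1 = true := by decide +kernel

theorem prim2 : primOK SuzG2.cert SuzG2.tab SuzG2.orb2 ks2 subs2 = true := by decide +kernel

theorem extremely_primitive : IsCoatom HJ ∧ ∀ x, x ∉ HJ →
    IsCoatom ((HJ ⊓ HJ.map (MulAut.conj x).toMonoidHom).subgroupOf HJ) := by
  have M := S1679.model_H
  have Kc := SuzG2.checked
  obtain ⟨φ, hφ⟩ : ∃ φ : S1679.PH →* Equiv.Perm (Fin SuzG2.tab.n),
      ∀ g, g < SuzG2.cert.k → φ (gh g) = Kc.perm g := exists_action_PH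
  have hsub : ∀ q ∈ [(SuzG2.orb1, SuzG2Simple.rep1), (SuzG2.orb2, SuzG2Simple.rep2)],
      Suborbit SuzG2.cert SuzG2.tab q.1 q.2 := by
    intro q hq
    simp only [List.mem_cons, List.not_mem_nil, or_false] at hq
    rcases hq with rfl | rfl
    · exact ⟨by decide, SuzG2.orb1_ok, by decide +kernel, by decide +kernel, SuzG2SimpleMax1.cert,
        SuzG2SimpleMax1.tab, _, ⟨rfl, by decide +kernel, by decide +kernel,
          SuzG2SimpleMax1.words_ok, SuzG2SimpleMax1.cover, rfl⟩⟩
    · exact ⟨by decide, SuzG2.orb2_ok, by decide +kernel, by decide +kernel, SuzG2SimpleMax2.cert,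
        SuzG2SimpleMax2.tab, _, ⟨rfl, by decide +kernel, by decide +kernel,
          SuzG2SimpleMax2.words_ok, SuzG2SimpleMax2.cover, rfl⟩⟩
  have hne : HJ ≠ ⊤ := by
    intro h
    have := Checked.index_eq Kc M φ hφ
    rw [show wordSubgroup (S1679.presH.gens S1679.extraH) SuzG2.cert.subs = ⊤ from h,
      Subgroup.index_top] at this
    revert this
    decide +kernel
  refine ⟨⟨hne, fun L hL => ?_⟩, fun x hx => ?_⟩
  · obtain ⟨g, hg, hgH⟩ := SetLike.exists_of_lt hL
    rw [eq_top_iff, ← Checked.sup_zpowers_eq_top Kc M φ hφ _ hsub SuzG2Simple.covered_ok g hgH]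
    exact sup_le hL.le (Subgroup.zpowers_le.mpr hg)
  obtain ⟨i, hi⟩ := Checked.coset_surjective Kc M φ hφ (QuotientGroup.mk x)
  have hK : ∀ g, g ∈ HJ ⊓ HJ.map (MulAut.conj x).toMonoidHom ↔ g ∈ HJ ∧ φ g i = i := by
    intro g
    rw [Subgroup.mem_inf, Subgroup.mem_map_equiv, MulAut.conj_symm_apply,
      ← mem_iff_fix Kc M φ hφ x g i hi]
  have hcov := SuzG2Simple.covered_ok i i.2
  simp only [covered, List.map_cons, List.map_nil, List.any_cons, List.any_nil, Bool.or_false,
    Bool.or_eq_true, beq_iff] at hcov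
  have main : ∀ (O : Orb) (hm : 0 < O.m), Below (O.posOK SuzG2.tab SuzG2.cert.subs) O.m →
      ∀ ks S, primOK SuzG2.cert SuzG2.tab O ks S = true →
      (∀ q < O.m, 1 < O.m → O.get q = O.get 0 → q = 0) → 1 < O.m → O.mem i = true →
      IsCoatom ((HJ ⊓ HJ.map (MulAut.conj x).toMonoidHom).subgroupOf HJ) := by
    intro O hm hO ks S hok hget h1 hmi
    obtain ⟨h0, hcard, -⟩ := Kc.orbit_spec M φ hφ O hm hO
    let p : Fin SuzG2.tab.n := ⟨O.get 0, h0⟩
    -- the point is moved to `i` by the subgroup
    have htrans : ∀ j : Fin SuzG2.tab.n, O.mem j = true → ∃ h ∈ HJ, φ h p = j := by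
      have key : ∀ q, q < O.m → ∀ j : Fin SuzG2.tab.n, (j : ℕ) = O.get q →
          ∃ h ∈ HJ, φ h p = j := by
        intro q
        induction q using Nat.strongRecOn with
        | _ q IH =>
          intro hq j hj
          have hpos := hO q hq
          simp only [Orb.posOK, force_eq, andB_eq, iteB_eq, Bool.and_eq_true, Bool.cond_true_left,
            Bool.or_eq_true, beq_iff, blt_iff] at hpos
          rcases hpos.2.2.2 with h0' | ⟨k1, k2, k3⟩
          · subst h0'
            exact ⟨1, one_mem _, by rw [map_one]; exact Fin.ext hj.symm⟩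
          · have hlt : O.get (O.pP q) < SuzG2.tab.n := by
              have := hO _ (k1.trans hq)
              simp only [Orb.posOK, force_eq, andB_eq, Bool.and_eq_true, blt_iff] at this
              exact this.1
            obtain ⟨h, hh, e⟩ := IH _ k1 (k1.trans hq) ⟨_, hlt⟩ rfl
            have hsw : SuzG2.cert.subs.getD (O.pW q) [] ∈ SuzG2.cert.subs := by
              rw [List.getD_eq_getElem _ _ k2]; exact List.getElem_mem k2
            have hl := M.subs_lt _ hsw
            refine ⟨_, mul_mem (Subgroup.subset_closure ⟨_, hsw, rfl⟩) hh, ?_⟩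
            rw [map_mul, Equiv.Perm.mul_apply, e, Checked.map_eval Kc M φ hφ hl]
            exact Fin.ext ((Kc.eval_perm hl _).trans (k3.trans hj.symm))
      intro j hj
      simp only [Orb.mem, andB_eq, Bool.and_eq_true, beq_iff, blt_iff] at hj
      exact key _ hj.1 j hj.2.symm
    obtain ⟨h, hh, hpi⟩ := htrans i hmi
    refine ⟨?_, fun L hL => ?_⟩
    · intro htop
      rw [Subgroup.subgroupOf_eq_top] at htop
      obtain ⟨q, hq, hq0⟩ : ∃ q, q < O.m ∧ q ≠ 0 := ⟨1, h1, one_ne_zero⟩
      have hlt : O.get q < SuzG2.tab.n := by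
        have := hO q hq
        simp only [Orb.posOK, force_eq, andB_eq, Bool.and_eq_true, blt_iff] at this
        exact this.1
      have hmq : O.mem (⟨O.get q, hlt⟩ : Fin SuzG2.tab.n) = true := by
        have := hO q hq
        simp only [Orb.posOK, force_eq, andB_eq, Bool.and_eq_true, beq_iff] at this
        simp only [Orb.mem, andB_eq, Bool.and_eq_true, beq_iff, blt_iff, this.2.1]
        exact ⟨hq, trivial⟩
      obtain ⟨h', hh', e'⟩ := htrans _ hmq
      have hf := ((hK _).mp (htop (mul_mem (mul_mem hh hh') (inv_mem hh)))).2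
      rw [map_mul, map_mul, map_inv, Equiv.Perm.mul_apply, Equiv.Perm.mul_apply,
        (Equiv.Perm.inv_eq_iff_eq).mpr hpi.symm, e'] at hf
      have := (φ h).injective (hf.trans hpi.symm)
      exact hq0 (hget q hq h1 (congrArg Fin.val this))
    · obtain ⟨⟨g, hgH⟩, hgL, hgK⟩ := SetLike.exists_of_lt hL
      rw [Subgroup.mem_subgroupOf] at hgK
      have hgi : φ g i ≠ i := fun e => hgK ((hK g).mpr ⟨hgH, e⟩)
      let L' : Subgroup S1679.PH := (L.map HJ.subtype).comap (MulAut.conj h).toMonoidHom
      have hmemL : ∀ y, y ∈ L' ↔ ∃ hy : h * y * h⁻¹ ∈ HJ, (⟨_, hy⟩ : HJ) ∈ L := fun y => by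
        constructor
        · rintro ⟨⟨z, hz⟩, hzL, e⟩
          have e' : z = h * y * h⁻¹ := e
          subst e'
          exact ⟨hz, hzL⟩
        · rintro ⟨hy, hyL⟩
          exact ⟨⟨_, hy⟩, hyL, rfl⟩
      have hall := le_of_primOK Kc M φ hφ O hO hm ks S hok p rfl L'
        (fun k hk hkp => by
          have hy : h * k * h⁻¹ ∈ HJ := mul_mem (mul_mem hh hk) (inv_mem hh)
          refine (hmemL k).mpr ⟨hy, hL.le ?_⟩
          rw [Subgroup.mem_subgroupOf]
          refine (hK _).mpr ⟨hy, ?_⟩
          rw [map_mul, map_mul, map_inv, Equiv.Perm.mul_apply, Equiv.Perm.mul_apply,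
            (Equiv.Perm.inv_eq_iff_eq).mpr hpi.symm, hkp, hpi])
        (h⁻¹ * g * h) (mul_mem (mul_mem (inv_mem hh) hgH) hh)
        (fun e => hgi (by
          rw [map_mul, map_mul, map_inv, Equiv.Perm.mul_apply, Equiv.Perm.mul_apply, hpi,
            Equiv.Perm.inv_eq_iff_eq, hpi] at e
          exact e))
        ((hmemL _).mpr ⟨by simpa [mul_assoc] using hgH, by simpa [mul_assoc] using hgL⟩)
      rw [eq_top_iff]
      rintro ⟨y, hy⟩ -
      obtain ⟨hy', hyL⟩ := (hmemL _).mp (hall (mul_mem (mul_mem (inv_mem hh) hy) hh))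
      simpa [mul_assoc] using hyL
  rcases hcov with h0 | h1 | h2
  · exfalso
    apply hx
    have e0 : i = ⟨0, Kc.pos⟩ := Fin.ext h0
    rw [e0, Checked.coset_zero, QuotientGroup.eq, inv_one, one_mul] at hi
    exact hi
  · refine main _ (by decide) SuzG2.orb1_ok _ _ prim1 ?_ (by decide) h1
    intro q hq _ e
    have h := hsub (SuzG2.orb1, SuzG2Simple.rep1) (by simp)
    have a := h.orb q hq
    have b := h.orb 0 h.pos
    simp only [Orb.posOK, force_eq, andB_eq, Bool.and_eq_true, beq_iff] at a b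
    rw [← a.2.1, e, b.2.1]
  · refine main _ (by decide) SuzG2.orb2_ok _ _ prim2 ?_ (by decide) h2
    intro q hq _ e
    have h := hsub (SuzG2.orb2, SuzG2Simple.rep2) (by simp)
    have a := h.orb q hq
    have b := h.orb 0 h.pos
    simp only [Orb.posOK, force_eq, andB_eq, Bool.and_eq_true, beq_iff] at a b
    rw [← a.2.1, e, b.2.1]

end Cfsg.Agent.Lib.SuzG2J2
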